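import Cfsg.Agent.CosetEnum.He.Cent.Iso

/-!
Equalities and orders in the Held group are decided by the images of four points.
-/

set_option autoImplicit false

namespace CfsgLib.CosetEnum.He.Out

open Cent (codeOf)

/-- letters of the table -/
def small7 (w : List ℕ) : Bool := w.all fun x => x.blt 7

theorem lt_of_small7 {w : List ℕ} (h : small7 w = true) : ∀ x ∈ w, x < 7 := fun x hx => by
  have := List.all_eq_true.1 h x hx
  simpa [Nat.blt, Nat.ble_eq] using this

theorem small7_append {v w : List ℕ} (hv : small7 v = true) (hw : small7 w = true) :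
    small7 (v ++ w) = true := by rw [small7, List.all_append]; exact Bool.and_eq_true _ _ ▸ ⟨hv, hw⟩

theorem small7_reverse {w : List ℕ} (hw : small7 w = true) : small7 w.reverse = true := by
  rw [small7, List.all_reverse]; exact hw

theorem gword_app (v w : List ℕ) : gword g7 (v ++ w) = gword g7 v * gword g7 w := Cent.gword_app v w

theorem gword_rev (w : List ℕ) : gword g7 w.reverse = (gword g7 w)⁻¹ := by
  have h := gword_inverse g7 (fun y => y) g7_inv w
  rwa [List.map_id'] at h

theorem gword_conj (u v : List ℕ) :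
    gword g7 (u.reverse ++ v ++ u) = (gword g7 u)⁻¹ * gword g7 v * gword g7 u := by
  rw [gword_app, gword_app, gword_rev]

/-- Equal codes give equal elements. -/
theorem eq_of_code {v w : List ℕ} (hv : small7 v = true) (hw : small7 w = true)
    (h : codeOf v = codeOf w) : gword g7 v = gword g7 w := by
  have hlt : ∀ (u : List ℕ), small7 u = true → ∀ i, i < 2058 →
      runT Tab.perm.T Tab.perm.L u i < 2058 := fun u hu i hi => by
    rw [← perm_ok.gword_inv_apply u (lt_of_small7 hu) ⟨i, hi⟩]
    exact Fin.is_lt _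
  simp only [codeOf] at h
  have a0 := hlt v hv 0 (by norm_num); have b0 := hlt w hw 0 (by norm_num)
  have a1 := hlt v hv 1 (by norm_num); have b1 := hlt w hw 1 (by norm_num)
  have a2 := hlt v hv 180 (by norm_num); have b2 := hlt w hw 180 (by norm_num)
  have a3 := hlt v hv 1380 (by norm_num); have b3 := hlt w hw 1380 (by norm_num)
  have e : ∀ A B r s : ℕ, r < 2058 → s < 2058 → A * 2058 + r = B * 2058 + s → A = B ∧ r = s :=
    fun A B r s _ _ _ => by omega
  obtain ⟨h', e3⟩ := e _ _ _ _ a3 b3 h
  obtain ⟨h'', e2⟩ := e _ _ _ _ a2 b2 h'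
  obtain ⟨e0, e1⟩ := e _ _ _ _ a1 b1 h''
  refine mul_inv_eq_one.1 (pi_injective ?_)
  rw [map_one]
  refine Cent.eq_one_of_base ⟨_, rfl⟩ fun p hp => ?_
  have hr : (gword perm_ok.sigma v)⁻¹ p = (gword perm_ok.sigma w)⁻¹ p := by
    refine Fin.ext ?_
    rw [perm_ok.gword_inv_apply _ (lt_of_small7 hv), perm_ok.gword_inv_apply _ (lt_of_small7 hw)]
    simp only [List.mem_cons, List.not_mem_nil, or_false] at hp
    rcases hp with rfl | rfl | rfl | rfl <;> simp only [pt_val]
    exacts [e3, e2, e1, e0]
  rw [map_mul, map_inv, pi_gword _ (lt_of_small7 hv), pi_gword _ (lt_of_small7 hw),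
    Equiv.Perm.mul_apply, ← hr]
  simp

/-- Equal elements have equal codes. -/
theorem code_of_eq {v w : List ℕ} (hv : small7 v = true) (hw : small7 w = true)
    (h : gword g7 v = gword g7 w) : codeOf v = codeOf w := by
  have key : ∀ i, i < 2058 →
      runT Tab.perm.T Tab.perm.L v i = runT Tab.perm.T Tab.perm.L w i := fun i hi => by
    have h1 := perm_ok.gword_inv_apply v (lt_of_small7 hv) ⟨i, hi⟩
    have h2 := perm_ok.gword_inv_apply w (lt_of_small7 hw) ⟨i, hi⟩
    rw [← pi_gword _ (lt_of_small7 hv), h, pi_gword _ (lt_of_small7 hw)] at h1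
    exact h1.symm.trans h2
  rw [codeOf, codeOf, key 0 (by norm_num), key 1 (by norm_num), key 180 (by norm_num),
    key 1380 (by norm_num)]

/-- the code of the identity -/
noncomputable def code1 : ℕ := codeOf []

theorem eq_one_of_code {v : List ℕ} (hv : small7 v = true) (h : codeOf v = code1) :
    gword g7 v = 1 := by rw [eq_of_code hv (w := []) rfl h, gword_nil]

theorem code_of_one {v : List ℕ} (hv : small7 v = true) (h : gword g7 v = 1) : codeOf v = code1 :=
  code_of_eq hv (w := []) rfl (by rw [h, gword_nil])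

/-- power of a word -/
def powW (m : ℕ) (w : List ℕ) : List ℕ := (List.replicate m w).flatten

theorem gword_powW (m : ℕ) (w : List ℕ) : gword g7 (powW m w) = gword g7 w ^ m := by
  induction m with
  | zero => rw [powW, List.replicate_zero, List.flatten_nil, gword_nil, pow_zero]
  | succ m ih =>
    rw [powW] at ih
    rw [powW, List.replicate_succ, List.flatten_cons, gword_app, ih, pow_succ']

theorem small7_powW {m : ℕ} {w : List ℕ} (hw : small7 w = true) : small7 (powW m w) = true := by
  rw [small7, List.all_eq_true]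
  intro x hx
  obtain ⟨v, hv, hxv⟩ := List.mem_flatten.1 hx
  rw [List.eq_of_mem_replicate hv] at hxv
  exact List.all_eq_true.1 hw x hxv

/-- the two classes of involutions -/
noncomputable def elA : Cfsg.Spor.He := g7 0

/-- conjugate to `a` -/
def IsA (x : Cfsg.Spor.He) : Prop := IsConj elA x

/-- conjugate to `d` -/
def IsB (x : Cfsg.Spor.He) : Prop := IsConj Cent.z0 x

theorem gword_a : gword g7 [0] = elA := by rw [gword_cons, gword_nil, mul_one]; rfl

theorem gword_d : gword g7 [3] = Cent.z0 := Cent.z0_eq.symm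

/-- the word of a conjugate of a generator -/
def cjW (x : ℕ) (ρ : List ℕ) : List ℕ := ρ.reverse ++ [x] ++ ρ

theorem small7_cjW {x : ℕ} (hx : x < 7) {ρ : List ℕ} (h : small7 ρ = true) :
    small7 (cjW x ρ) = true :=
  small7_append (small7_append (small7_reverse h) (by simp [small7, Nat.blt, Nat.ble_eq]; omega)) h

theorem isConj_cjW (x : ℕ) (ρ : List ℕ) : IsConj (gword g7 [x]) (gword g7 (cjW x ρ)) := by
  rw [cjW, gword_conj]
  exact isConj_iff.2 ⟨(gword g7 ρ)⁻¹, by rw [inv_inv]⟩

end CfsgLib.CosetEnum.He.Out
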