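import Cfsg.Agent.CosetEnum.He.Out.Invol

/-!
Up to inner automorphisms an automorphism of the Held group fixes `d, y, h` and sends `k₀` to
`k₀` or to `k₁`.
-/

set_option autoImplicit false
set_option maxRecDepth 8000

namespace CfsgLib.CosetEnum.He.Out

open Cent (codeOf z0)

/-- an element by its word -/
noncomputable abbrev el (w : List ℕ) : Cfsg.Spor.He := gword g7 w

/-- the word of a transported member -/
def transW (u ρ : List ℕ) : List ℕ := u.reverse ++ cjW 3 ρ ++ u

/-- commutation on the base points -/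
noncomputable def commW (v w : List ℕ) : Bool := codeOf (v ++ w) == codeOf (w ++ v)

/-- the word `x` conjugates `v` to `w` -/
noncomputable def conjW (x v w : List ℕ) : Bool := codeOf (x.reverse ++ v ++ x) == codeOf w

theorem words_small : small7 uW && small7 vW && small7 yW && small7 hW && small7 k0W && small7 k1W &&
    small7 rkW = true := by decide +kernel

theorem su : small7 uW = true := by have := words_small; simp only [Bool.and_eq_true] at this; tauto
theorem sv : small7 vW = true := by have := words_small; simp only [Bool.and_eq_true] at this; tauto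
theorem sy : small7 yW = true := by have := words_small; simp only [Bool.and_eq_true] at this; tauto
theorem sh' : small7 hW = true := by have := words_small; simp only [Bool.and_eq_true] at this; tauto
theorem sk : small7 k0W = true := by have := words_small; simp only [Bool.and_eq_true] at this; tauto
theorem sk1 : small7 k1W = true := by have := words_small; simp only [Bool.and_eq_true] at this; tauto
theorem srk : small7 rkW = true := by have := words_small; simp only [Bool.and_eq_true] at this; tauto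

theorem small_trans {u ρ : List ℕ} (hu : small7 u = true) (hρ : small7 ρ = true) :
    small7 (transW u ρ) = true :=
  small7_append (small7_append (small7_reverse hu) (small7_cjW (by norm_num) hρ)) hu

theorem el_conjW {x v w : List ℕ} (hx : small7 x = true) (hv : small7 v = true) (hw : small7 w = true)
    (h : conjW x v w = true) : (el x)⁻¹ * el v * el x = el w := by
  rw [← gword_conj]
  exact eq_of_code (small7_append (small7_append (small7_reverse hx) hv) hx) hw (beq_iff_eq.1 h)

theorem el_commW {v w : List ℕ} (hv : small7 v = true) (hw : small7 w = true)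
    (h : commW v w = true) : el v * el w = el w * el v := by
  rw [el, el, ← gword_app, ← gword_app]
  exact eq_of_code (small7_append hv hw) (small7_append hw hv) (beq_iff_eq.1 h)

theorem isA_map (φ : Cfsg.Spor.He ≃* Cfsg.Spor.He) {x : Cfsg.Spor.He} (h : IsA x) : IsA (φ x) := by
  obtain ⟨g, rfl⟩ := isConj_iff.1 h
  have h2 : elA * elA = 1 := by
    nth_rewrite 2 [show elA = (elA)⁻¹ from g7_inv 0]
    rw [mul_inv_cancel]
  have h1 : elA ≠ 1 := fun he => by
    obtain ⟨r, -, -⟩ := elA_five
    exact (show codeOf [0] ≠ code1 by decide +kernel) (code_of_one rfl (gword_a.trans he))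
  refine (involution_classes ?_ ?_).resolve_right fun hB => ?_
  · rw [← map_mul, ← map_one φ]
    exact congrArg φ (by rw [show g * elA * g⁻¹ * (g * elA * g⁻¹) = g * (elA * elA) * g⁻¹ by group, h2];
                         group)
  · exact fun he => h1 (conj_eq_one_iff.1 (φ.injective (he.trans (map_one φ).symm)))
  · obtain ⟨k, hk⟩ := isConj_iff.1 hB
    have hs := isB_map φ.symm
    refine not_A_and_B h ?_
    refine hs.trans (isConj_iff.2 ⟨φ.symm k, ?_⟩)
    rw [← map_inv, ← map_mul, ← map_mul, hk, MulEquiv.symm_apply_apply]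

theorem isB_map' (φ : Cfsg.Spor.He ≃* Cfsg.Spor.He) {x : Cfsg.Spor.He} (h : IsB x) : IsB (φ x) := by
  obtain ⟨g, rfl⟩ := isConj_iff.1 h
  exact (isB_map φ).trans (isConj_iff.2 ⟨φ g, by rw [map_mul, map_mul, map_inv]⟩)

theorem isA_of_code {w : List ℕ} (hw : small7 w = true) (h : Acodes.contains (codeOf w) = true) :
    IsA (el w) := by
  have hA := members_A
  rw [Bool.and_eq_true, beq_iff_eq] at hA
  rw [List.contains_iff_mem, ← hA.2] at h
  obtain ⟨ρ, hρ, he⟩ := List.mem_map.1 h
  rw [el, eq_of_code hw (small7_cjW (by norm_num) (List.all_eq_true.1 hA.1 ρ hρ)) he.symm]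
  show IsConj elA _
  rw [← gword_a]
  exact isConj_cjW 0 ρ

theorem isB_cjW (ρ : List ℕ) : IsB (el (cjW 3 ρ)) := by
  rw [IsB, ← gword_d]
  exact isConj_cjW 3 ρ

theorem out_check : BOut.all (fun ρ => codeOf ([3] ++ cjW 3 ρ) == code1 ||
    Bcodes.contains (codeOf ([3] ++ cjW 3 ρ))) = true := by decide +kernel

theorem yc_check : YE.all (fun e => small7 e.2.1 && commW [3] e.2.1 &&
    conjW e.2.1 yW (cjW 3 e.1)) = true := by decide +kernel

theorem hc_check : YE.all (fun e => !(codeOf (powW 3 ([3] ++ transW uW e.1)) == code1) ||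
    codeOf (transW uW e.1) == codeOf [3] ||
    (match e.2.2.1 with
      | some x => small7 x && commW [3] x && commW yW x && conjW x hW (transW uW e.1)
      | none => false)) = true := by decide +kernel

theorem kc_check : YE.all (fun e => !(codeOf (powW 3 (yW ++ transW vW e.1)) == code1) ||
    !(codeOf (powW 21 ([3] ++ transW vW e.1)) == code1) ||
    codeOf (powW 3 ([3] ++ transW vW e.1)) == code1 ||
    (match e.2.2.2 with
      | some (b, x) => small7 x && commW [3] x && commW yW x && commW hW x &&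
          conjW x (if b then k1W else k0W) (transW vW e.1)
      | none => false)) = true := by decide +kernel

theorem tuple_check : commW [3] yW && conjW uW [3] yW && conjW vW [3] hW &&
    Acodes.contains (codeOf ([3] ++ yW)) && commW yW hW && conjW rkW [3] k0W && commW hW k0W &&
    (codeOf (powW 3 ([3] ++ hW)) == code1) && !(codeOf hW == codeOf [3]) &&
    Acodes.contains (codeOf (uW ++ (yW ++ hW) ++ uW.reverse)) &&
    Acodes.contains (codeOf (vW ++ (hW ++ k0W) ++ vW.reverse)) &&
    (codeOf (powW 3 (yW ++ k0W)) == code1) && (codeOf (powW 21 ([3] ++ k0W)) == code1) &&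
    !(codeOf (powW 3 ([3] ++ k0W)) == code1) = true := by decide +kernel

/-- A member with the product with `d` in the class of `a` is listed in `YE`. -/
theorem member_YE {m : Cfsg.Spor.He} (hC : m ∈ Subgroup.centralizer {z0}) (hB : IsB m)
    (hA : IsA (z0 * m)) : ∃ e ∈ YE, small7 e.1 = true ∧ m = el (cjW 3 e.1) := by
  have h2 : m * m = 1 := by
    obtain ⟨g, rfl⟩ := isConj_iff.1 hB
    rw [show g * z0 * g⁻¹ * (g * z0 * g⁻¹) = g * (z0 * z0) * g⁻¹ by group, Cent.z0_sq]
    group
  have h1 : m ≠ 1 := fun h => by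
    subst h
    rw [mul_one] at hA
    exact not_A_and_B hA (IsConj.refl _)
  rcases involution_cases hC h2 h1 with ⟨ρ, -, e⟩ | ⟨ρ, hρ, e⟩
  · subst e
    exact (not_A_and_B (by rw [IsA, ← gword_a]; exact isConj_cjW 0 ρ) hB).elim
  have hBm := members_B
  rw [Bool.and_eq_true, beq_iff_eq] at hBm
  have hs := List.all_eq_true.1 hBm.1 ρ hρ
  rw [BW, List.mem_append] at hρ
  rcases hρ with hρ | hρ
  · obtain ⟨x, hx, rfl⟩ := List.mem_map.1 hρ
    exact ⟨x, hx, hs, e⟩
  · exfalso
    have h := List.all_eq_true.1 out_check ρ hρ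
    have hw : small7 ([3] ++ cjW 3 ρ) = true := small7_append rfl (small7_cjW (by norm_num) hs)
    have he : el ([3] ++ cjW 3 ρ) = z0 * m := by rw [el, gword_app, gword_d, e]
    rw [Bool.or_eq_true, beq_iff_eq, List.contains_iff_mem, ← hBm.2] at h
    rcases h with h | h
    · rw [el, eq_one_of_code hw h] at he
      rw [← he] at hA
      exact not_A_and_B hA ((isB_cjW []).trans (by
        obtain ⟨g, hg⟩ := isConj_iff.1 hA
        have : elA = 1 := conj_eq_one_iff.1 hg
        exact absurd (code_of_one rfl (gword_a.trans this)) (by decide +kernel)))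
    · obtain ⟨ρ', hρ', he'⟩ := List.mem_map.1 h
      rw [el, eq_of_code hw (small7_cjW (by norm_num) (List.all_eq_true.1 hBm.1 ρ' hρ')) he'.symm] at he
      rw [← he] at hA
      exact not_A_and_B hA (isB_cjW ρ')

theorem el_trans (u ρ : List ℕ) : el (transW u ρ) = (el u)⁻¹ * el (cjW 3 ρ) * el u := gword_conj _ _

/-- A transported candidate: commutes with `v`, is a conjugate of `d`, product with `v` conjugate to
`a`. -/
theorem member_trans {u w : List ℕ} {x : Cfsg.Spor.He} (hu : small7 u = true) (hw : small7 w = true)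
    (hconj : conjW u [3] w = true) (hc : el w * x = x * el w) (hB : IsB x) (hA : IsA (el w * x)) :
    ∃ e ∈ YE, small7 e.1 = true ∧ x = el (transW u e.1) := by
  have hyu : (el u)⁻¹ * z0 * el u = el w := gword_d ▸ el_conjW hu rfl hw hconj
  set m := el u * x * (el u)⁻¹
  have hmC : m ∈ Subgroup.centralizer {z0} := by
    rw [Subgroup.mem_centralizer_iff]
    intro q hq
    rw [Set.mem_singleton_iff.1 hq]
    calc z0 * m = el u * (((el u)⁻¹ * z0 * el u) * x) * (el u)⁻¹ := by simp [m, mul_assoc]
      _ = el u * (x * ((el u)⁻¹ * z0 * el u)) * (el u)⁻¹ := by rw [hyu, hc]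
      _ = m * z0 := by simp [m, mul_assoc]
  have hmB : IsB m := hB.trans (isConj_iff.2 ⟨el u, rfl⟩)
  have hmA : IsA (z0 * m) := by
    refine hA.trans (isConj_iff.2 ⟨el u, ?_⟩)
    rw [← hyu]
    simp [m, mul_assoc]
  obtain ⟨e, he, hs, hm⟩ := member_YE hmC hmB hmA
  refine ⟨e, he, hs, ?_⟩
  rw [el_trans, ← hm]
  simp [m, mul_assoc]

theorem el_pow3 {v w : List ℕ} (hv : small7 v = true) (hw : small7 w = true) (m : ℕ) :
    (el v * el w) ^ m = 1 ↔ codeOf (powW m (v ++ w)) = code1 := by
  rw [el, el, ← gword_app, ← gword_powW]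
  exact ⟨code_of_one (small7_powW (small7_append hv hw)),
    eq_one_of_code (small7_powW (small7_append hv hw))⟩

/-- the automorphism, followed by conjugation by `el x` -/
noncomputable def adjust (x : List ℕ) (φ : MulAut Cfsg.Spor.He) : MulAut Cfsg.Spor.He :=
  MulAut.conj (el x) * φ

theorem adjust_fix {x v : List ℕ} {φ : MulAut Cfsg.Spor.He} (hc : el v * el x = el x * el v)
    (h : φ (el v) = el v) : adjust x φ (el v) = el v := by
  show el x * φ (el v) * (el x)⁻¹ = el v
  rw [h, ← hc, mul_inv_cancel_right]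

theorem adjust_move {x v w u : List ℕ} {φ : MulAut Cfsg.Spor.He}
    (hc : (el x)⁻¹ * el v * el x = el w) (h : φ (el u) = el w) : adjust x φ (el u) = el v := by
  show el x * φ (el u) * (el x)⁻¹ = el v
  rw [h, ← hc]
  simp [mul_assoc]

theorem normal_form (φ : MulAut Cfsg.Spor.He) : ∃ g : Cfsg.Spor.He,
    (MulAut.conj g * φ) (el [3]) = el [3] ∧ (MulAut.conj g * φ) (el yW) = el yW ∧
      (MulAut.conj g * φ) (el hW) = el hW ∧
      ((MulAut.conj g * φ) (el k0W) = el k0W ∨ (MulAut.conj g * φ) (el k0W) = el k1W) := by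
  have hd : el [3] = z0 := gword_d
  obtain ⟨⟨⟨⟨⟨⟨⟨⟨⟨⟨⟨⟨⟨t1, t2⟩, t3⟩, t4⟩, t5⟩, t6⟩, t7⟩, t8⟩, t9⟩, t10⟩, t11⟩, t12⟩, t13⟩, t14⟩ := by
    have := tuple_check; simpa only [Bool.and_eq_true] using this
  -- d
  obtain ⟨c, hc⟩ := isConj_iff.1 (isB_map φ)
  let φ1 : MulAut Cfsg.Spor.He := MulAut.conj c⁻¹ * φ
  have f1 : φ1 (el [3]) = el [3] := by
    show c⁻¹ * φ (el [3]) * c⁻¹⁻¹ = el [3]
    rw [hd, ← hc]
    group
  -- y
  have yB : IsB (el yW) := by
    rw [← el_conjW su rfl sy t2, hd]
    exact isConj_iff.2 ⟨(el uW)⁻¹, by rw [inv_inv]⟩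
  have dyA : IsA (z0 * el yW) := by
    have := isA_of_code (small7_append rfl sy) t4
    rwa [el, gword_app, gword_d] at this
  have hyC : φ1 (el yW) ∈ Subgroup.centralizer {z0} := by
    rw [Subgroup.mem_centralizer_iff]
    intro q hq
    rw [Set.mem_singleton_iff.1 hq]
    have e := congrArg φ1 (el_commW rfl sy t1)
    rw [map_mul, map_mul, f1, hd] at e
    exact e
  obtain ⟨e, he, hes, hey⟩ := member_YE hyC (isB_map' φ1 yB) (by
    have := isA_map φ1 dyA
    rwa [map_mul, ← hd, f1, hd] at this)
  have hyc := List.all_eq_true.1 yc_check e he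
  simp only [Bool.and_eq_true] at hyc
  obtain ⟨⟨hx, hxd⟩, hxy⟩ := hyc
  let φ2 := adjust e.2.1 φ1
  have g1 : φ2 (el [3]) = el [3] := adjust_fix (el_commW rfl hx hxd) f1
  have g2 : φ2 (el yW) = el yW :=
    adjust_move (el_conjW hx sy (small7_cjW (by norm_num) hes) hxy) hey
  -- h
  have hB' : IsB (el hW) := by
    rw [← el_conjW sv rfl sh' t3, hd]
    exact isConj_iff.2 ⟨(el vW)⁻¹, by rw [inv_inv]⟩
  have yhA : IsA (el yW * el hW) := by
    have := isA_of_code (small7_append (small7_append su (small7_append sy sh')) (small7_reverse su)) t10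
    refine this.trans (isConj_iff.2 ⟨(el uW)⁻¹, ?_⟩)
    simp [el, gword_app, gword_rev, mul_assoc]
  obtain ⟨e', he', hes', heh⟩ := member_trans (x := φ2 (el hW)) su sy t2
    (by
      have e := congrArg φ2 (el_commW sy sh' t5)
      rwa [map_mul, map_mul, g2] at e)
    (isB_map' φ2 hB') (by
      have := isA_map φ2 yhA
      rwa [map_mul, g2] at this)
  have hh := List.all_eq_true.1 hc_check e' he'
  have hts := small_trans su hes'
  simp only [Bool.or_eq_true, Bool.not_eq_true', beq_iff_eq, beq_eq_false_iff_ne] at hh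
  have hord : codeOf (powW 3 ([3] ++ transW uW e'.1)) = code1 := by
    rw [← el_pow3 rfl hts, ← heh, ← g1, ← map_mul, ← map_pow,
      (el_pow3 rfl sh' 3).2 (beq_iff_eq.1 t8), map_one]
  have hne : ¬ codeOf (transW uW e'.1) = codeOf [3] := fun h => by
    have h' := eq_of_code hts (w := [3]) rfl h
    rw [← el, ← heh] at h'
    have h'' : el hW = el [3] := φ2.injective (h'.trans g1.symm)
    exact (beq_eq_false_iff_ne.1 (Bool.not_eq_true' _ ▸ t9)) (code_of_eq sh' rfl h'')
  rcases hh with (hh | hh) | hh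
  · exact absurd hord hh
  · exact absurd hh hne
  cases hopt : e'.2.2.1 with
  | none => rw [hopt] at hh; exact Bool.noConfusion hh
  | some x =>
  rw [hopt] at hh
  simp only [Bool.and_eq_true] at hh
  obtain ⟨⟨⟨hx', hxd'⟩, hxy'⟩, hxh'⟩ := hh
  let φ3 := adjust x φ2
  have k1 : φ3 (el [3]) = el [3] := adjust_fix (el_commW rfl hx' hxd') g1
  have k2 : φ3 (el yW) = el yW := adjust_fix (el_commW sy hx' hxy') g2
  have k3 : φ3 (el hW) = el hW := adjust_move (el_conjW hx' sh' hts hxh') heh
  -- k
  have hkB : IsB (el k0W) := by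
    rw [← el_conjW srk rfl sk t6, hd]
    exact isConj_iff.2 ⟨(el rkW)⁻¹, by rw [inv_inv]⟩
  have hkA : IsA (el hW * el k0W) := by
    have := isA_of_code (small7_append (small7_append sv (small7_append sh' sk)) (small7_reverse sv)) t11
    refine this.trans (isConj_iff.2 ⟨(el vW)⁻¹, ?_⟩)
    simp [el, gword_app, gword_rev, mul_assoc]
  obtain ⟨e'', he'', hes'', hek⟩ := member_trans (x := φ3 (el k0W)) sv sh' t3
    (by
      have e := congrArg φ3 (el_commW sh' sk t7)
      rwa [map_mul, map_mul, k3] at e)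
    (isB_map' φ3 hkB) (by
      have := isA_map φ3 hkA
      rwa [map_mul, k3] at this)
  have hk := List.all_eq_true.1 kc_check e'' he''
  have htk := small_trans sv hes''
  simp only [Bool.or_eq_true, Bool.not_eq_true', beq_iff_eq, beq_eq_false_iff_ne] at hk
  have o1 : codeOf (powW 3 (yW ++ transW vW e''.1)) = code1 := by
    rw [← el_pow3 sy htk, ← hek, ← k2, ← map_mul, ← map_pow,
      (el_pow3 sy sk 3).2 (beq_iff_eq.1 t12), map_one]
  have o2 : codeOf (powW 21 ([3] ++ transW vW e''.1)) = code1 := by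
    rw [← el_pow3 rfl htk, ← hek, ← k1, ← map_mul, ← map_pow,
      (el_pow3 rfl sk 21).2 (beq_iff_eq.1 t13), map_one]
  have o3 : ¬ codeOf (powW 3 ([3] ++ transW vW e''.1)) = code1 := fun h => by
    rw [← el_pow3 rfl htk, ← hek, ← k1, ← map_mul, ← map_pow] at h
    have h' := φ3.injective (h.trans (map_one φ3).symm)
    exact (beq_eq_false_iff_ne.1 (Bool.not_eq_true' _ ▸ t14)) ((el_pow3 rfl sk 3).1 h')
  rcases hk with ((hk | hk) | hk) | hk
  · exact absurd o1 hk
  · exact absurd o2 hk
  · exact absurd hk o3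
  cases hopt' : e''.2.2.2 with
  | none => rw [hopt'] at hk; exact Bool.noConfusion hk
  | some bx =>
  obtain ⟨b, x2⟩ := bx
  rw [hopt'] at hk
  simp only [Bool.and_eq_true] at hk
  obtain ⟨⟨⟨⟨hx2, hd2⟩, hy2⟩, hh2⟩, hk2⟩ := hk
  refine ⟨el x2 * el x * el e.2.1 * c⁻¹, ?_⟩
  have hφ : MulAut.conj (el x2 * el x * el e.2.1 * c⁻¹) * φ = adjust x2 φ3 := by
    show _ = MulAut.conj (el x2) * (MulAut.conj (el x) * (MulAut.conj (el e.2.1) * (MulAut.conj c⁻¹ * φ)))
    simp only [map_mul, mul_assoc]
  rw [hφ]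
  refine ⟨adjust_fix (el_commW rfl hx2 hd2) k1, adjust_fix (el_commW sy hx2 hy2) k2,
    adjust_fix (el_commW sh' hx2 hh2) k3, ?_⟩
  cases b with
  | false => exact Or.inl (adjust_move (el_conjW hx2 sk htk hk2) hek)
  | true => exact Or.inr (adjust_move (el_conjW hx2 sk1 htk hk2) hek)

end CfsgLib.CosetEnum.He.Out
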