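import Cfsg.Agent.CosetEnum.He.Out.Enum.Part0
import Cfsg.Agent.CosetEnum.He.Out.Enum.Part1
import Cfsg.Agent.CosetEnum.He.Out.Enum.Part2
import Cfsg.Agent.CosetEnum.He.Out.Enum.Part3

/-!
The elements and the involutions of the centralizer of `d`, and the two classes of involutions.
-/

set_option autoImplicit false

namespace CfsgLib.CosetEnum.He.Out

open Cent (codeOf)

theorem s_check : sW.all (fun s => small7 s && codeOf ([3] ++ s) == codeOf (s ++ [3])) = true := by
  decide +kernel

theorem t_check : tW.all (fun t => small7 t && codeOf ([3] ++ t) == codeOf (t ++ [3]) &&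
    Nat.beq (runT Tab.perm.T Tab.perm.L t 12) 12) = true := by decide +kernel

theorem sImg_eq : sW.map (fun s => runT Tab.perm.T Tab.perm.L s 12) = sImg := by decide +kernel

theorem tCode_eq : tW.map codeOf = tCode := by decide +kernel

theorem sImg_nodup : sImg.Nodup :=
  (Cent.nodup_of_increasing (by decide +kernel : Cent.increasing sImg = true)).imp fun h => ne_of_lt h

theorem tCode_nodup : tCode.Nodup :=
  (Cent.nodup_of_increasing (by decide +kernel : Cent.increasing tCode = true)).imp fun h => ne_of_lt h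

theorem s_small {s : List ℕ} (h : s ∈ sW) : small7 s = true :=
  (Bool.and_eq_true _ _ ▸ List.all_eq_true.1 s_check s h).1

theorem t_small {t : List ℕ} (h : t ∈ tW) : small7 t = true :=
  (Bool.and_eq_true _ _ ▸ (Bool.and_eq_true _ _ ▸ List.all_eq_true.1 t_check t h).1).1

theorem small_d : small7 [3] = true := rfl

theorem mem_C_of_code {w : List ℕ} (hw : small7 w = true)
    (h : codeOf ([3] ++ w) = codeOf (w ++ [3])) :
    gword g7 w ∈ Subgroup.centralizer {Cent.z0} := by
  rw [Subgroup.mem_centralizer_iff]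
  intro y hy
  have e := eq_of_code (small7_append small_d hw) (small7_append hw small_d) h
  rw [gword_app, gword_app, gword_d] at e
  rw [Set.mem_singleton_iff.1 hy]
  exact e

theorem s_memC {s : List ℕ} (h : s ∈ sW) : gword g7 s ∈ Subgroup.centralizer {Cent.z0} :=
  mem_C_of_code (s_small h) (beq_iff_eq.1 (Bool.and_eq_true _ _ ▸ List.all_eq_true.1 s_check s h).2)

theorem t_memC {t : List ℕ} (h : t ∈ tW) : gword g7 t ∈ Subgroup.centralizer {Cent.z0} :=
  mem_C_of_code (t_small h) (beq_iff_eq.1
    (Bool.and_eq_true _ _ ▸ (Bool.and_eq_true _ _ ▸ List.all_eq_true.1 t_check t h).1).2)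

theorem t_fix {t : List ℕ} (h : t ∈ tW) : runT Tab.perm.T Tab.perm.L t 12 = 12 :=
  Nat.eq_of_beq_eq_true (Bool.and_eq_true _ _ ▸ List.all_eq_true.1 t_check t h).2

theorem card_lists : sW.length = 1344 ∧ tW.length = 16 := by decide +kernel

/-- Every element of the centralizer of `d` is one of the listed products. -/
theorem exists_product {c : Cfsg.Spor.He} (hc : c ∈ Subgroup.centralizer {Cent.z0}) :
    ∃ t ∈ tW, ∃ s ∈ sW, c = gword g7 (t ++ s) := by
  have := finite_he
  let f : Fin tW.length × Fin sW.length → Subgroup.centralizer {Cent.z0} := fun p =>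
    ⟨gword g7 (tW[p.1] ++ sW[p.2]), by
      rw [gword_app]
      exact mul_mem (t_memC (List.getElem_mem p.1.2)) (s_memC (List.getElem_mem p.2.2))⟩
  have hf : Function.Injective f := by
    rintro ⟨i, j⟩ ⟨i', j'⟩ h
    have e : gword g7 (tW[i] ++ sW[j]) = gword g7 (tW[i'] ++ sW[j']) := congrArg Subtype.val h
    have hs : ∀ k : Fin sW.length, small7 sW[k] = true := fun k => s_small (List.getElem_mem k.2)
    have ht : ∀ k : Fin tW.length, small7 tW[k] = true := fun k => t_small (List.getElem_mem k.2)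
    have happ : ∀ (v w : List ℕ) (i : ℕ), runT Tab.perm.T Tab.perm.L (v ++ w) i =
        runT Tab.perm.T Tab.perm.L w (runT Tab.perm.T Tab.perm.L v i) := fun v w => by
      induction v with
      | nil => exact fun i => rfl
      | cons x v ih => exact fun i => (congrFun rfl _).trans (ih _)
    have h12 : runT Tab.perm.T Tab.perm.L sW[j] 12 = runT Tab.perm.T Tab.perm.L sW[j'] 12 := by
      have hl : ∀ (i : Fin tW.length) (j : Fin sW.length),
          ∀ x ∈ tW[i] ++ sW[j], x < 7 := fun i j => lt_of_small7 (small7_append (ht i) (hs j))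
      have h1 := perm_ok.gword_inv_apply _ (hl i j) (pt 12 (by omega))
      have h2 := perm_ok.gword_inv_apply _ (hl i' j') (pt 12 (by omega))
      rw [← pi_gword _ (hl i j), e, pi_gword _ (hl i' j'), h2, happ, happ, pt_val] at h1
      have f1 := t_fix (List.getElem_mem i.2)
      have f2 := t_fix (List.getElem_mem i'.2)
      simp only [Fin.getElem_fin] at h1 f1 f2 ⊢
      rw [f1, f2] at h1
      exact h1.symm
    have hj : j = j' := by
      have hn : (sW.map fun s => runT Tab.perm.T Tab.perm.L s 12).Nodup := sImg_eq ▸ sImg_nodup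
      have := List.inj_on_of_nodup_map hn (List.getElem_mem j.2) (List.getElem_mem j'.2) h12
      exact Fin.ext ((List.Nodup.getElem_inj_iff (List.Nodup.of_map _ hn)).1 this)
    subst hj
    rw [gword_app, gword_app] at e
    have hi : i = i' := by
      have hn : (tW.map codeOf).Nodup := tCode_eq ▸ tCode_nodup
      have := List.inj_on_of_nodup_map hn (List.getElem_mem i.2) (List.getElem_mem i'.2)
        (code_of_eq (ht i) (ht i') (mul_right_cancel e))
      exact Fin.ext ((List.Nodup.getElem_inj_iff (List.Nodup.of_map _ hn)).1 this)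
    rw [hi]
  have hle : Nat.card (Subgroup.centralizer {Cent.z0}) ≤
      Nat.card (Fin tW.length × Fin sW.length) := by
    rw [Nat.card_prod, Nat.card_fin, Nat.card_fin, card_lists.1, card_lists.2]
    exact Cent.card_centralizer_le
  have hb : Function.Bijective f :=
    (Nat.bijective_iff_injective_and_card f).2
      ⟨hf, le_antisymm (Nat.card_le_card_of_injective f hf) hle⟩
  obtain ⟨p, hp⟩ := hb.2 ⟨c, hc⟩
  exact ⟨_, List.getElem_mem p.1.2, _, List.getElem_mem p.2.2, (congrArg Subtype.val hp).symm⟩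

theorem card_centralizer : Nat.card (Subgroup.centralizer {Cent.z0}) = 21504 := by
  have := finite_he
  refine le_antisymm Cent.card_centralizer_le ?_
  refine le_trans Cent.card_toPts_ge ?_
  rw [Nat.card_congr (Subgroup.equivMapOfInjective _ _ pi_injective).toEquiv]
  refine Subgroup.card_le_of_le ?_
  rw [Cent.toPts, MonoidHom.range_comp, Subgroup.range_subtype, Cent.Gamma, MonoidHom.map_closure,
    Subgroup.closure_le]
  rintro _ ⟨_, ⟨x, hx, rfl⟩, rfl⟩
  refine ⟨gword g7 (Cent.W4.getD x []), mem_C_of_code ?_ ?_, ?_⟩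
  · rw [small7, List.all_eq_true]
    intro y hy
    have := Cent.W4_lt x y hy
    simp [Nat.blt, Nat.ble_eq]
    omega
  · have h : (List.range 4).all (fun x => codeOf ([3] ++ Cent.W4.getD x []) ==
        codeOf (Cent.W4.getD x [] ++ [3])) = true := by decide +kernel
    exact beq_iff_eq.1 (List.all_eq_true.1 h x (List.mem_range.2 hx))
  · rw [pi_gword _ (Cent.W4_lt x)]
    show _ = (Cent.pairG x).1
    rw [Cent.pairG, letterVal_lt _ hx]
    rfl

theorem enum_all : ∀ k < 16, enumRow k = true := by
  intro k hk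
  interval_cases k
  exacts [enum0, enum1, enum2, enum3, enum4, enum5, enum6, enum7, enum8, enum9, enum10, enum11,
    enum12, enum13, enum14, enum15]

theorem members_A : (AW.all small7 && (AW.map (fun ρ => codeOf (cjW 0 ρ)) == Acodes)) = true := by
  decide +kernel

theorem members_B : (BW.all small7 && (BW.map (fun ρ => codeOf (cjW 3 ρ)) == Bcodes)) = true := by
  decide +kernel

/-- An involution commuting with `d` is one of the listed ones. -/
theorem involution_cases {c : Cfsg.Spor.He} (hc : c ∈ Subgroup.centralizer {Cent.z0})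
    (h2 : c * c = 1) (h1 : c ≠ 1) :
    (∃ ρ ∈ AW, c = gword g7 (cjW 0 ρ)) ∨ ∃ ρ ∈ BW, c = gword g7 (cjW 3 ρ) := by
  obtain ⟨t, ht, s, hs, rfl⟩ := exists_product hc
  have hw := small7_append (t_small ht) (s_small hs)
  obtain ⟨k, hk, rfl⟩ := List.getElem_of_mem ht
  have hk16 : k < 16 := card_lists.2 ▸ hk
  have h := List.all_eq_true.1 (enum_all k hk16) s hs
  rw [List.getD_eq_getElem _ _ hk] at h
  simp only [enumOK, Bool.or_eq_true, Bool.not_eq_true', beq_iff_eq, List.contains_iff_mem] at h
  rcases h with h | h | h | h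
  · exfalso
    rw [List.all_eq_false] at h
    obtain ⟨i, hi, hne⟩ := h
    have hlt : i < 2058 := (show ∀ i ∈ ([0, 1, 180, 1380] : List ℕ), i < 2058 by decide) i hi
    have e := perm_ok.gword_inv_apply _ (lt_of_small7 (small7_append hw hw)) ⟨i, hlt⟩
    rw [← pi_gword _ (lt_of_small7 (small7_append hw hw)), gword_app, h2, map_one, inv_one] at e
    exact hne (by rw [← e]; exact Nat.beq_refl _)
  · exact absurd (eq_one_of_code hw h) h1
  · left
    have hA := members_A
    rw [Bool.and_eq_true, beq_iff_eq] at hA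
    rw [← hA.2] at h
    obtain ⟨ρ, hρ, he⟩ := List.mem_map.1 h
    exact ⟨ρ, hρ, eq_of_code hw (small7_cjW (by norm_num) (List.all_eq_true.1 hA.1 ρ hρ)) he.symm⟩
  · right
    have hB := members_B
    rw [Bool.and_eq_true, beq_iff_eq] at hB
    rw [← hB.2] at h
    obtain ⟨ρ, hρ, he⟩ := List.mem_map.1 h
    exact ⟨ρ, hρ, eq_of_code hw (small7_cjW (by norm_num) (List.all_eq_true.1 hB.1 ρ hρ)) he.symm⟩

/-- Every involution is conjugate to `a` or to `d`. -/
theorem involution_classes {t : Cfsg.Spor.He} (h2 : t * t = 1) (h1 : t ≠ 1) : IsA t ∨ IsB t := by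
  have := finite_he
  set C := Subgroup.centralizer {Cent.z0}
  have hodd : Odd C.index := by
    have h := C.card_mul_index
    rw [card_centralizer, card_he] at h
    exact ⟨93712, by omega⟩
  have hfix : ∃ q : Cfsg.Spor.He ⧸ C, t • q = q := by
    by_contra hcon
    push Not at hcon
    have hinv : Function.Involutive fun q : Cfsg.Spor.He ⧸ C => t • q := fun q => by
      show t • t • q = q
      rw [smul_smul, h2, one_smul]
    classical
    have : Fintype (Cfsg.Spor.He ⧸ C) := Fintype.ofFinite _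
    have he : Even (Fintype.card (Cfsg.Spor.He ⧸ C)) := by
      have hs := Equiv.Perm.two_dvd_card_support
        (σ := hinv.toPerm) (Equiv.ext fun q => hinv q)
      rw [show hinv.toPerm.support = Finset.univ from Finset.eq_univ_of_forall fun q =>
        Equiv.Perm.mem_support.2 (hcon q)] at hs
      exact even_iff_two_dvd.2 hs
    rw [Subgroup.index_eq_card, Nat.card_eq_fintype_card] at hodd
    exact (Nat.not_even_iff_odd.2 hodd) he
  obtain ⟨q, hq⟩ := hfix
  obtain ⟨g, rfl⟩ := QuotientGroup.mk_surjective q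
  have hm : g⁻¹ * t * g ∈ C := by
    have := QuotientGroup.eq.1 hq.symm
    simpa [smul_eq_mul, mul_assoc] using this
  have h2' : (g⁻¹ * t * g) * (g⁻¹ * t * g) = 1 := by
    calc (g⁻¹ * t * g) * (g⁻¹ * t * g) = g⁻¹ * (t * t) * g := by group
      _ = 1 := by rw [h2]; group
  have h1' : g⁻¹ * t * g ≠ 1 := fun h => h1 (by
    calc t = g * (g⁻¹ * t * g) * g⁻¹ := by group
      _ = 1 := by rw [h]; group)
  have hconj : IsConj (g⁻¹ * t * g) t := isConj_iff.2 ⟨g, by group⟩
  rcases involution_cases hm h2' h1' with ⟨ρ, -, e⟩ | ⟨ρ, -, e⟩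
  · exact Or.inl ((gword_a ▸ e ▸ isConj_cjW 0 ρ).trans hconj)
  · exact Or.inr ((gword_d ▸ e ▸ isConj_cjW 3 ρ).trans hconj)

theorem five_check : small7 [2, 3, 2, 3] = true ∧ codeOf (powW 5 [2, 3, 2, 3]) = code1 ∧
    codeOf [2, 3, 2, 3] ≠ code1 ∧ codeOf ([2, 3, 2, 3] ++ [0]) = codeOf ([0] ++ [2, 3, 2, 3]) := by
  decide +kernel

theorem elA_five : ∃ r : Cfsg.Spor.He, orderOf r = 5 ∧ r * elA = elA * r := by
  obtain ⟨hs, h5, hne, hc⟩ := five_check
  have : Fact (Nat.Prime 5) := ⟨by norm_num⟩
  refine ⟨gword g7 [2, 3, 2, 3], orderOf_eq_prime ?_ fun h => hne (code_of_one hs h), ?_⟩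
  · rw [← gword_powW]
    exact eq_one_of_code (small7_powW hs) h5
  · have e := eq_of_code (small7_append hs rfl) (small7_append (w := [2, 3, 2, 3]) rfl hs) hc
    rwa [gword_app, gword_app, gword_a] at e

theorem no_five {x r : Cfsg.Spor.He} (hx : IsB x) (hr : orderOf r = 5) : r * x ≠ x * r := by
  intro h
  obtain ⟨g, hg⟩ := isConj_iff.1 hx
  have := finite_he
  have hm : g⁻¹ * r * g ∈ Subgroup.centralizer {Cent.z0} := by
    rw [Subgroup.mem_centralizer_iff]
    intro y hy
    rw [Set.mem_singleton_iff.1 hy]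
    rw [← hg] at h
    calc Cent.z0 * (g⁻¹ * r * g) = g⁻¹ * ((g * Cent.z0 * g⁻¹) * r) * g := by group
      _ = g⁻¹ * (r * (g * Cent.z0 * g⁻¹)) * g := by rw [h]
      _ = g⁻¹ * r * g * Cent.z0 := by group
  have h5 : orderOf (⟨_, hm⟩ : Subgroup.centralizer {Cent.z0}) = 5 := by
    rw [← Subgroup.orderOf_coe, ← hr]
    show orderOf (g⁻¹ * r * g) = orderOf r
    exact (orderOf_injective (MulAut.conj g⁻¹).toMonoidHom (MulAut.conj g⁻¹).injective r) ▸ by
      simp
  have hd := orderOf_dvd_natCard (⟨_, hm⟩ : Subgroup.centralizer {Cent.z0})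
  rw [h5, card_centralizer] at hd
  norm_num at hd

theorem not_A_and_B {x : Cfsg.Spor.He} (hA : IsA x) (hB : IsB x) : False := by
  obtain ⟨r, hr, hc⟩ := elA_five
  obtain ⟨g, hg⟩ := isConj_iff.1 hA
  refine no_five hB (r := MulAut.conj g r) ?_ ?_
  · rw [← hr]
    exact orderOf_injective (MulAut.conj g).toMonoidHom (MulAut.conj g).injective r
  · rw [← hg, show g * elA * g⁻¹ = MulAut.conj g elA from rfl, ← map_mul, ← map_mul, hc]

/-- automorphisms fix both classes -/
theorem isB_map (φ : Cfsg.Spor.He ≃* Cfsg.Spor.He) : IsB (φ Cent.z0) := by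
  have hd1 : Cent.z0 ≠ 1 := by
    intro h
    have := five_check
    have hne : codeOf [3] ≠ code1 := by decide +kernel
    exact hne (code_of_one rfl (gword_d.trans h))
  refine (involution_classes (by rw [← map_mul, Cent.z0_sq, map_one])
    fun h => hd1 (φ.injective (h.trans (map_one φ).symm))).resolve_left fun hA => ?_
  obtain ⟨r, hr, hc⟩ := elA_five
  obtain ⟨g, hg⟩ := isConj_iff.1 hA
  refine no_five (IsConj.refl Cent.z0) (r := φ.symm (MulAut.conj g r)) ?_ ?_
  · rw [← hr, MulEquiv.orderOf_eq φ.symm, MulEquiv.orderOf_eq (MulAut.conj g)]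
  · apply φ.injective
    rw [map_mul, map_mul, MulEquiv.apply_symm_apply, ← hg,
      show g * elA * g⁻¹ = MulAut.conj g elA from rfl, ← map_mul, ← map_mul, hc]

end CfsgLib.CosetEnum.He.Out
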