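import Cfsg.Agent.CosetEnum.He.Out.Bound
import Cfsg.Prelude.Def_KGroupFacts
import Cfsg.Agent.Eq.Def_KGroupFacts

/-!
An outer automorphism of the Held group, and the order of its outer automorphism group.
-/

set_option autoImplicit false

namespace CfsgLib.CosetEnum.He.Out

open Cent (codeOf z0)

theorem sig_check : allBelow (fun i => (sigT i).blt 2058 && (sigI i).blt 2058 &&
    Nat.beq (sigI (sigT i)) i && Nat.beq (sigT (sigI i)) i) 2058 = true := by decide +kernel

theorem sigW_check : sigW.length = 7 ∧ sigW.all small7 = true ∧ small7 q0 = true := by decide +kernel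

theorem sig_parts (i : Fin Tab.perm.n) : sigT i < 2058 ∧ sigI i < 2058 ∧
    sigI (sigT i) = i ∧ sigT (sigI i) = i := by
  have h := (Model.allBelow_iff _ _).1 sig_check i i.2
  simp only [Bool.and_eq_true] at h
  refine ⟨?_, ?_, Nat.eq_of_beq_eq_true h.1.2, Nat.eq_of_beq_eq_true h.2⟩
  · simpa [Nat.blt, Nat.ble_eq] using h.1.1.1
  · simpa [Nat.blt, Nat.ble_eq] using h.1.1.2

/-- the permutation -/
noncomputable def sig : Equiv.Perm (Fin Tab.perm.n) where
  toFun i := ⟨sigT i, (sig_parts i).1⟩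
  invFun i := ⟨sigI i, (sig_parts i).2.1⟩
  left_inv i := Fin.ext (sig_parts i).2.2.1
  right_inv i := Fin.ext (sig_parts i).2.2.2

theorem sigW_lt (x : ℕ) : small7 (sigW.getD x []) = true := by
  by_cases hx : x < sigW.length
  · rw [List.getD_eq_getElem _ _ hx]
    exact List.all_eq_true.1 sigW_check.2.1 _ (List.getElem_mem hx)
  · rw [List.getD_eq_default _ _ (not_lt.1 hx)]
    rfl

theorem norm_check : (List.range 7).all (fun x => allBelow (fun i =>
    Nat.beq (sigT (runT Tab.perm.T Tab.perm.L [x] i))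
      (runT Tab.perm.T Tab.perm.L (sigW.getD x []) (sigT i))) 2058) = true := by decide +kernel

theorem conj_letter {x : ℕ} (hx : x < 7) :
    sig * pi (el [x]) * sig⁻¹ = pi (el (sigW.getD x [])) := by
  have hxs : ∀ y ∈ [x], y < 7 := fun y hy => by rw [List.mem_singleton.1 hy]; exact hx
  rw [el, el, pi_gword _ hxs, pi_gword _ (lt_of_small7 (sigW_lt x))]
  have h := List.all_eq_true.1 norm_check x (List.mem_range.2 hx)
  have key : sig * (gword perm_ok.sigma [x])⁻¹ =
      (gword perm_ok.sigma (sigW.getD x []))⁻¹ * sig := by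
    refine Equiv.ext fun i => Fin.ext ?_
    show sigT ((gword perm_ok.sigma [x])⁻¹ i : Fin Tab.perm.n) = _
    rw [perm_ok.gword_inv_apply _ hxs, Equiv.Perm.mul_apply,
      perm_ok.gword_inv_apply _ (lt_of_small7 (sigW_lt x))]
    exact Nat.eq_of_beq_eq_true ((Model.allBelow_iff _ _).1 h i i.2)
  have key' := congrArg (·⁻¹) key
  simp only [mul_inv_rev, inv_inv] at key'
  calc sig * gword perm_ok.sigma [x] * sig⁻¹
      = sig * (gword perm_ok.sigma [x] * sig⁻¹) := mul_assoc _ _ _
    _ = gword perm_ok.sigma (sigW.getD x []) := by rw [key']; simp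

theorem range_le : pi.range.map (MulAut.conj sig).toMonoidHom ≤ pi.range := by
  rw [Subgroup.map_le_iff_le_comap]
  have htop : pi.range = Subgroup.closure {a | ∃ x < 7, pi (el [x]) = a} := by
    rw [MonoidHom.range_eq_map, show (⊤ : Subgroup Cfsg.Spor.He) =
      Subgroup.closure {a | ∃ x < 7, el [x] = a} from ?_, MonoidHom.map_closure]
    · exact congrArg Subgroup.closure (Set.ext fun a =>
        ⟨fun ⟨_, ⟨x, hx, e⟩, f⟩ => ⟨x, hx, e ▸ f⟩, fun ⟨x, hx, e⟩ => ⟨_, ⟨x, hx, rfl⟩, e⟩⟩)
    · rw [eq_comm, eq_top_iff, ← PresentedGroup.closure_range_of, Subgroup.closure_le]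
      rintro _ ⟨x, rfl⟩
      refine Subgroup.subset_closure ⟨enc x, enc_lt x, ?_⟩
      rw [el, gword_cons, gword_nil, mul_one, g7, letterVal_lt gen (enc_lt x), gen, dec_enc]
  rw [htop, Subgroup.closure_le]
  rintro _ ⟨x, hx, rfl⟩
  rw [SetLike.mem_coe, Subgroup.mem_comap, ← htop]
  exact ⟨el (sigW.getD x []), (conj_letter hx).symm⟩

theorem range_eq : pi.range.map (MulAut.conj sig).toMonoidHom = pi.range :=
  Subgroup.eq_of_le_of_card_ge range_le (le_of_eq
    (Nat.card_congr (Subgroup.equivMapOfInjective _ _ (MulAut.conj sig).injective).toEquiv))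

/-- the outer automorphism -/
noncomputable def sigAut : MulAut Cfsg.Spor.He :=
  (MonoidHom.ofInjective pi_injective).trans
    (((Subgroup.equivMapOfInjective pi.range _ (MulAut.conj sig).injective).trans
      (MulEquiv.subgroupCongr range_eq)).trans (MonoidHom.ofInjective pi_injective).symm)

theorem pi_sigAut (g : Cfsg.Spor.He) : pi (sigAut g) = sig * pi g * sig⁻¹ := by
  have h := MonoidHom.apply_ofInjective_symm pi_injective
    (MulEquiv.subgroupCongr range_eq ((Subgroup.equivMapOfInjective pi.range _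
      (MulAut.conj sig).injective) (MonoidHom.ofInjective pi_injective g)))
  exact h

theorem sig_fix_check : ([([3], [3]), (yW, yW), (hW, hW), (k0W, k1W)] : List (List ℕ × List ℕ)).all
    (fun p => ([0, 1, 180, 1380] : List ℕ).all fun b => Nat.beq (sigT (runT Tab.perm.T Tab.perm.L p.1
      (sigI b))) (runT Tab.perm.T Tab.perm.L p.2 b)) = true := by decide +kernel

theorem sigAut_el {v w : List ℕ} (hv : small7 v = true) (hw : small7 w = true)
    (h : ([0, 1, 180, 1380] : List ℕ).all (fun b => Nat.beq (sigT (runT Tab.perm.T Tab.perm.L v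
      (sigI b))) (runT Tab.perm.T Tab.perm.L w b)) = true) : sigAut (el v) = el w := by
  refine mul_inv_eq_one.1 (pi_injective ?_)
  rw [map_one]
  refine Cent.eq_one_of_base ⟨_, rfl⟩ fun p hp => ?_
  have hr : (sig * gword perm_ok.sigma v * sig⁻¹)⁻¹ p = (gword perm_ok.sigma w)⁻¹ p := by
    rw [mul_inv_rev, mul_inv_rev, inv_inv, ← mul_assoc]
    refine Fin.ext ?_
    show sigT ((gword perm_ok.sigma v)⁻¹ (sig⁻¹ p) : Fin Tab.perm.n) = _
    rw [perm_ok.gword_inv_apply _ (lt_of_small7 hv), perm_ok.gword_inv_apply _ (lt_of_small7 hw)]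
    refine Nat.eq_of_beq_eq_true (List.all_eq_true.1 h (p : ℕ) ?_)
    simp only [List.mem_cons, List.not_mem_nil, or_false] at hp
    rcases hp with rfl | rfl | rfl | rfl <;> simp [pt_val]
  rw [map_mul, map_inv, pi_sigAut, el, el, pi_gword _ (lt_of_small7 hv), pi_gword _ (lt_of_small7 hw),
    Equiv.Perm.mul_apply, ← hr]
  simp

theorem shift_check : Nat.beq (runT Tab.perm.T Tab.perm.L q0 (sigT 0)) 0 &&
    !(Nat.beq (Tab.labH (runT Tab.perm.T Tab.perm.L q0 (sigT swapPt))) (Tab.labH swapPt)) &&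
    swapPt.blt 2058 = true := by decide +kernel

theorem not_inner : sigAut ∉ Cfsg.Inn Cfsg.Spor.He := by
  rintro ⟨g, hg⟩
  have hcomm : ∀ a : Cfsg.Spor.He,
      (pi g)⁻¹ * sig * pi a = pi a * ((pi g)⁻¹ * sig) := fun a => by
    have h := congrArg pi (DFunLike.congr_fun hg a)
    rw [MulAut.conj_apply, map_mul, map_mul, map_inv, pi_sigAut] at h
    calc (pi g)⁻¹ * sig * pi a = (pi g)⁻¹ * (sig * pi a * sig⁻¹) * sig := by simp [mul_assoc]
      _ = pi a * ((pi g)⁻¹ * sig) := by rw [← h]; simp [mul_assoc]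
  set τ := (pi g)⁻¹ * sig
  have h0 : τ P0 = P0 := by
    -- `H` fixes only the point 0
    have hfix : ∀ σ ∈ cl Tab.wordsH, σ (τ P0) = τ P0 := fun σ hσ => by
      rw [cl_H] at hσ
      obtain ⟨a, ha, rfl⟩ := hσ
      rw [← Equiv.Perm.mul_apply, ← hcomm, Equiv.Perm.mul_apply, (mem_Hs_iff a).1 ha]
    have horb : MulAction.orbit (cl Tab.wordsH) (τ P0) = {τ P0} :=
      Set.eq_singleton_iff_unique_mem.2 ⟨MulAction.mem_orbit_self _,
        fun _ ⟨⟨σ, hσ⟩, e⟩ => e ▸ hfix σ hσ⟩
    have hn := ncard_orbit_H (j := τ P0) (c := Tab.labH (τ P0)) rfl rfl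
    rw [horb, Set.ncard_singleton] at hn
    have hchk : allBelow (fun i => Nat.beq i 0 ||
        !(countLabel Tab.labH (Tab.labH i) 2058 == 1)) 2058 = true := by
      have h5 : allBelow (fun i => (Tab.labH i).blt 5 && (Nat.beq i 0 || !(Nat.beq (Tab.labH i) 0)))
          2058 = true := by decide +kernel
      refine (Model.allBelow_iff _ _).2 fun i hi => ?_
      have h := (Model.allBelow_iff _ _).1 h5 i hi
      simp only [Bool.and_eq_true, Bool.or_eq_true, Bool.not_eq_true'] at h ⊢
      rcases h.2 with h' | h'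
      · exact Or.inl h'
      · right
        have hl : Tab.labH i < 5 := by simpa [Nat.blt, Nat.ble_eq] using h.1
        have hne : Tab.labH i ≠ 0 := fun e => by rw [e] at h'; exact Bool.noConfusion h'
        generalize Tab.labH i = c at hl hne ⊢
        interval_cases c
        · exact absurd rfl hne
        · rw [count_H1]; rfl
        · rw [count_H2]; rfl
        · rw [count_H3]; rfl
        · rw [count_H4]; rfl
    have := (Model.allBelow_iff _ _).1 hchk _ (τ P0).2
    rw [← hn] at this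
    simp only [beq_self_eq_true, Bool.not_true, Bool.or_false] at this
    exact Fin.ext (Nat.eq_of_beq_eq_true this)
  have hτ : τ = 1 := by
    refine Equiv.ext fun i => ?_
    obtain ⟨⟨_, a, rfl⟩, rfl⟩ : i ∈ MulAction.orbit pi.range P0 := orbit_top ▸ Set.mem_univ i
    show τ (pi a P0) = pi a P0
    rw [← Equiv.Perm.mul_apply, hcomm, Equiv.Perm.mul_apply, h0]
  have hs : sig = pi g := inv_mul_eq_one.1 hτ |>.symm
  obtain ⟨⟨c0, c1⟩, c2⟩ := show (_ ∧ _) ∧ _ by
    have := shift_check; simpa only [Bool.and_eq_true] using this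
  have hq := lt_of_small7 sigW_check.2.2
  have hlt : swapPt < 2058 := by simpa [Nat.blt, Nat.ble_eq] using c2
  set b := (el q0)⁻¹ * g
  have hb : ∀ i : Fin Tab.perm.n,
      ((pi b i : Fin Tab.perm.n) : ℕ) = runT Tab.perm.T Tab.perm.L q0 (sigT i) := fun i => by
    rw [map_mul, map_inv, el, pi_gword _ hq, Equiv.Perm.mul_apply, ← hs, perm_ok.gword_inv_apply _ hq]
    rfl
  have hb0 : b ∈ Hs := (mem_Hs_iff b).2 (Fin.ext ((hb P0).trans (Nat.eq_of_beq_eq_true c0)))
  have hm : pi b (pt swapPt hlt) ∈ MulAction.orbit (cl Tab.wordsH) (pt swapPt hlt) :=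
    ⟨⟨pi b, cl_H ▸ Subgroup.mem_map_of_mem pi hb0⟩, rfl⟩
  rw [orbit_H, Set.mem_ofPred_eq, hb, pt_val] at hm
  rw [Bool.not_eq_true', hm, Nat.beq_refl] at c1
  exact Bool.noConfusion c1

theorem gen_check : (gen4.all fun p => p.2.all (fun k => k.blt 4) && p.1.blt 7 &&
    codeOf ((p.2.map fun k => [[3], yW, hW, k0W].getD k []).flatten) == codeOf [p.1]) = true ∧
    gen4.map Prod.fst = [0, 1, 2, 3, 4, 5, 6] := by decide +kernel

theorem ext_of_tuple {φ ψ : MulAut Cfsg.Spor.He} (hd : φ (el [3]) = ψ (el [3]))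
    (hy : φ (el yW) = ψ (el yW)) (hh : φ (el hW) = ψ (el hW)) (hk : φ (el k0W) = ψ (el k0W)) :
    φ = ψ := by
  let L : List (List ℕ) := [[3], yW, hW, k0W]
  have hL : ∀ k, φ (el (L.getD k [])) = ψ (el (L.getD k [])) := fun k => by
    match k with
    | 0 => exact hd
    | 1 => exact hy
    | 2 => exact hh
    | 3 => exact hk
    | n + 4 =>
      show φ (el []) = ψ (el [])
      rw [el, gword_nil, map_one, map_one]
  have hflat : ∀ l : List ℕ, φ (el (l.map fun k => L.getD k []).flatten) =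
      ψ (el (l.map fun k => L.getD k []).flatten) := by
    intro l
    induction l with
    | nil => exact hL 4
    | cons k l ih => rw [List.map_cons, List.flatten_cons, el, gword_app, map_mul, map_mul, hL, ih]
  have hsmallL : ∀ k, small7 (L.getD k []) = true := fun k => by
    match k with
    | 0 => rfl
    | 1 => exact sy
    | 2 => exact sh'
    | 3 => exact sk
    | n + 4 => rfl
  have hgen : ∀ x < 7, φ (el [x]) = ψ (el [x]) := by
    intro x hx
    have hm : x ∈ gen4.map Prod.fst := by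
      rw [gen_check.2]
      interval_cases x <;> decide
    obtain ⟨⟨x', l⟩, hp, rfl⟩ := List.mem_map.1 hm
    have h := List.all_eq_true.1 gen_check.1 _ hp
    simp only [Bool.and_eq_true, beq_iff_eq] at h
    have hs : small7 (l.map fun k => L.getD k []).flatten = true := by
      rw [small7, List.all_eq_true]
      intro y hy'
      obtain ⟨v, hv, hyv⟩ := List.mem_flatten.1 hy'
      obtain ⟨k, -, rfl⟩ := List.mem_map.1 hv
      exact List.all_eq_true.1 (hsmallL k) y hyv
    rw [el, ← eq_of_code hs (by simp [small7, Nat.blt, Nat.ble_eq]; omega) h.2]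
    exact hflat l
  refine MulEquiv.ext fun g => ?_
  have hg : g ∈ Subgroup.closure (Set.range (PresentedGroup.of
      (rels := Cfsg.Spor.coxRelators Cfsg.Spor.He.edges ∪ {r | r ∈ Cfsg.Spor.He.extra}))) := by
    rw [PresentedGroup.closure_range_of]; trivial
  induction hg using Subgroup.closure_induction with
  | mem _ h =>
    obtain ⟨x, rfl⟩ := h
    have := hgen (enc x) (enc_lt x)
    rwa [el, gword_cons, gword_nil, mul_one, g7, letterVal_lt gen (enc_lt x), gen, dec_enc] at this
  | one => rw [map_one, map_one]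
  | mul _ _ _ _ ha hb => rw [map_mul, map_mul, ha, hb]
  | inv _ _ ha => rw [map_inv, map_inv, ha]

theorem inner_or_sig (φ : MulAut Cfsg.Spor.He) :
    φ ∈ Cfsg.Inn Cfsg.Spor.He ∨ φ * sigAut⁻¹ ∈ Cfsg.Inn Cfsg.Spor.He := by
  obtain ⟨g, h1, h2, h3, h4⟩ := normal_form φ
  have hs := sig_fix_check
  simp only [List.all_cons, List.all_nil, Bool.and_true, Bool.and_eq_true] at hs
  rcases h4 with h4 | h4
  · left
    have e : MulAut.conj g * φ = 1 := ext_of_tuple h1 h2 h3 h4
    rw [eq_inv_of_mul_eq_one_right e, ← map_inv]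
    exact ⟨g⁻¹, rfl⟩
  · right
    have e : MulAut.conj g * φ = sigAut := ext_of_tuple
      (h1.trans (sigAut_el rfl rfl (List.all_eq_true.2 (by simpa using hs.1))).symm)
      (h2.trans (sigAut_el sy sy (List.all_eq_true.2 (by simpa using hs.2.1))).symm)
      (h3.trans (sigAut_el sh' sh' (List.all_eq_true.2 (by simpa using hs.2.2.1))).symm)
      (h4.trans (sigAut_el sk sk1 (List.all_eq_true.2 (by simpa using hs.2.2.2))).symm)
    refine ⟨g⁻¹, ?_⟩
    rw [map_inv, eq_mul_inv_iff_mul_eq, inv_mul_eq_iff_eq_mul, e]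

theorem card_out : Nat.card (Cfsg.Out Cfsg.Spor.He) = 2 := by
  show Nat.card (MulAut Cfsg.Spor.He ⧸ Cfsg.Inn Cfsg.Spor.He) = 2
  rw [← Subgroup.index_eq_card, Subgroup.index_eq_two_iff]
  refine ⟨sigAut⁻¹, fun φ => ?_⟩
  rcases inner_or_sig φ with h | h
  · refine Or.inr ⟨h, fun hc => not_inner ?_⟩
    have := mul_mem (inv_mem h) hc
    rwa [inv_mul_cancel_left, inv_mem_iff] at this
  · refine Or.inl ⟨h, fun hc => not_inner ?_⟩
    have := mul_mem (inv_mem hc) h
    rwa [inv_mul_cancel_left, inv_mem_iff] at this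

end CfsgLib.CosetEnum.He.Out
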